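import Mathlib

/-!
Lifting elementary abelian subgroups and roots into central extensions of exponent two.
-/

set_option autoImplicit false

namespace CfsgLib.Schur.PSL3FourCover

open Subgroup
open scoped commutatorElement

variable {X Q : Type*} [Group X] [Group Q] (π : X →* Q)

/-- The preimage of an elementary abelian subgroup with all involutions conjugate is abelian. -/
theorem comm_of_transitive (hk : π.ker ≤ center X) (he : ∀ z ∈ π.ker, z * z = 1)
    (hs : Function.Surjective π) {V : Type*} [AddCommGroup V] (h2 : ∀ v : V, v + v = 0)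
    (e : V → Q) (hadd : ∀ v w, e (v + w) = e v * e w)
    (htr : ∀ v w : V, v ≠ 0 → w ≠ 0 → ∃ q : Q, q * e v * q⁻¹ = e w)
    (hbig : ∀ v w : V, ∃ u, u ≠ 0 ∧ u ≠ v ∧ u ≠ w ∧ u ≠ v + w)
    (a b : X) (v w : V) (ha : π a = e v) (hb : π b = e w) : a * b = b * a := by
  have he0 : e 0 = 1 := by simpa using (mul_left_cancel (a := e 0) (b := e 0) (c := 1) (by
    rw [← hadd, add_zero, mul_one]))
  have hsq : ∀ (x : X) (v : V), π x = e v → x * x ∈ π.ker := fun x v hx => by
    rw [MonoidHom.mem_ker, map_mul, hx, ← hadd, h2, he0]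
  have hcen : ∀ z ∈ π.ker, ∀ y : X, y * z = z * y := fun z hz y => mem_center_iff.mp (hk hz) y
  have hconst : ∀ (x y : X) (v w : V), v ≠ 0 → w ≠ 0 → π x = e v → π y = e w →
      x * x = y * y := by
    intro x y v w hv hw hx hy
    obtain ⟨q, hq⟩ := htr v w hv hw
    obtain ⟨g, rfl⟩ := hs q
    set k := y⁻¹ * (g * x * g⁻¹) with hkdef
    have hkk : k ∈ π.ker := by
      rw [MonoidHom.mem_ker, hkdef, map_mul, map_mul, map_mul, map_inv, map_inv, hx, hy, hq,
        inv_mul_cancel]
    calc x * x = g * (x * x) * g⁻¹ := by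
          rw [hcen _ (hsq x v hx) g, mul_inv_cancel_right]
      _ = (y * k) * (y * k) := by rw [hkdef]; group
      _ = y * (k * y) * k := by group
      _ = y * y * (k * k) := by rw [← hcen k hkk y]; group
      _ = y * y := by rw [he k hkk, mul_one]
  have hzero : ∀ (x : X), π x = e 0 → ∀ y : X, x * y = y * x := fun x hx y =>
    (hcen x (MonoidHom.mem_ker.mpr (hx.trans he0)) y).symm
  by_cases hv : v = 0
  · exact hzero a (hv ▸ ha) b
  by_cases hw : w = 0
  · exact (hzero b (hw ▸ hb) a).symm
  by_cases hvw : v = w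
  · have h1 : a⁻¹ * b ∈ π.ker := by
      rw [MonoidHom.mem_ker, map_mul, map_inv, ha, hb, hvw, inv_mul_cancel]
    have h3 := hcen _ h1 a
    calc a * b = a * (a * (a⁻¹ * b)) := by group
      _ = a * ((a⁻¹ * b) * a) := by rw [h3]
      _ = b * a := by group
  have hvw' : v + w ≠ 0 := fun h => hvw (by
    have := congrArg (· + w) h; simpa [add_assoc, h2] using this)
  set z := a * a with hz
  have hzc : ∀ y : X, y * z = z * y := hcen z (hsq a v ha)
  have hzz : z * z = 1 := he z (hsq a v ha)
  -- any two lifts of distinct non-zero vectors commute up to `z`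
  have key : ∀ (x y : X) (v' w' : V), v' ≠ 0 → w' ≠ 0 → v' + w' ≠ 0 → π x = e v' → π y = e w' →
      x * y = z * (y * x) := by
    intro x y v' w' hv' hw' hs' hx hy
    have h1 : x * x = z := hconst x a v' v hv' hv hx ha
    have h3 : y * y = z := hconst y a w' v hw' hv hy ha
    have h4 : (x * y) * (x * y) = z :=
      hconst (x * y) a (v' + w') v hs' hv (by rw [map_mul, hx, hy, hadd]) ha
    have h5 : y * x * (x * y) = 1 := by
      rw [show y * x * (x * y) = y * (x * x) * y by group, h1, hzc y, mul_assoc, h3, hzz]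
    have h6 : z * (x * y) * (x * y) = 1 := by rw [mul_assoc, h4, hzz]
    have h7 : y * x = z * (x * y) := mul_right_cancel (h5.trans h6.symm)
    rw [h7, ← mul_assoc, hzz, one_mul]
  obtain ⟨u, hu0, huv, huw, huvw⟩ := hbig v w
  obtain ⟨d, hd⟩ := hs (e u)
  have hne : ∀ r s : V, r ≠ s → r + s ≠ 0 := fun r s h h' => h (by
    have := congrArg (· + s) h'; simpa [add_assoc, h2] using this)
  have k1 := key a d v u hv hu0 (hne v u (Ne.symm huv)) ha hd
  have k2 := key b d w u hw hu0 (hne w u (Ne.symm huw)) hb hd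
  have k3 := key (a * b) d (v + w) u hvw' hu0 (hne _ u (Ne.symm huvw))
    (by rw [map_mul, ha, hb, hadd]) hd
  have k4 : a * b * d = d * (a * b) := by
    calc a * b * d = a * (z * (d * b)) := by rw [mul_assoc, k2]
      _ = (a * z) * (d * b) := by group
      _ = z * (a * d) * b := by rw [hzc a]; group
      _ = (z * z) * (d * a * b) := by rw [k1]; group
      _ = d * (a * b) := by rw [hzz, one_mul, mul_assoc]
  have hz1 : z = 1 := mul_eq_right.mp (k3.symm.trans k4)
  rw [key a b v w hv hw hvw' ha hb, hz1, one_mul]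

/-- The commutator with `g` of any lift of `q`. -/
theorem bracket_indep (hk : π.ker ≤ center X) (g a a' : X) (h : π a = π a') :
    ⁅g, a⁆ = ⁅g, a'⁆ := by
  have hz : a⁻¹ * a' ∈ π.ker := by rw [MonoidHom.mem_ker, map_mul, map_inv, h, inv_mul_cancel]
  have h1 := mem_center_iff.mp (hk hz) g
  calc ⁅g, a⁆ = g * a * ((a⁻¹ * a') * g⁻¹) * (a⁻¹ * a')⁻¹ * a⁻¹ := by
        rw [← mem_center_iff.mp (hk hz) g⁻¹, commutatorElement_def]; group
    _ = ⁅g, a'⁆ := by rw [commutatorElement_def]; group

/-- A root: a one-parameter family scaled by an element, with abelian preimage. -/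
structure IsRoot {F : Type*} [Field F] (g : X) (x : F → Q) (lam : F) : Prop where
  add : ∀ s t, x (s + t) = x s * x t
  scale : ∀ s, π g * x s * (π g)⁻¹ = x (lam * s)
  ne_one : lam ≠ 1
  comm : ∀ (a b : X) (s t : F), π a = x s → π b = x t → a * b = b * a

variable {F : Type*} [Field F] {g : X} {x : F → Q} {lam : F} (hs : Function.Surjective π)

/-- The canonical lift of a root element. -/
noncomputable def rootLift (g : X) (x : F → Q) (lam : F) (s : F) : X :=
  ⁅g, Function.surjInv hs (x (s / (lam - 1)))⁆

theorem map_rootLift (h : IsRoot π g x lam) (s : F) : π (rootLift π hs g x lam s) = x s := by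
  rw [rootLift, map_commutatorElement, Function.surjInv_eq hs, commutatorElement_def, h.scale,
    mul_inv_eq_iff_eq_mul, ← h.add]
  congr 1
  have := sub_ne_zero.mpr h.ne_one
  field_simp
  ring

theorem rootLift_add (hk : π.ker ≤ center X) (h : IsRoot π g x lam) (s t : F) :
    rootLift π hs g x lam (s + t) = rootLift π hs g x lam s * rootLift π hs g x lam t := by
  simp only [rootLift]
  set a := Function.surjInv hs (x (s / (lam - 1))) with ha
  set b := Function.surjInv hs (x (t / (lam - 1))) with hb
  have hpa : π a = x (s / (lam - 1)) := Function.surjInv_eq hs _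
  have hpb : π b = x (t / (lam - 1)) := Function.surjInv_eq hs _
  rw [bracket_indep π hk g _ (a * b) (by
    rw [Function.surjInv_eq hs, map_mul, hpa, hpb, ← h.add, add_div])]
  have hc : a * ⁅g, b⁆ = ⁅g, b⁆ * a := h.comm _ _ (s / (lam - 1)) t hpa (by
    have := map_rootLift π hs h t
    rwa [rootLift] at this)
  calc ⁅g, a * b⁆ = ⁅g, a⁆ * (a * ⁅g, b⁆ * a⁻¹) := by simp only [commutatorElement_def]; group
    _ = _ := by rw [hc, mul_inv_cancel_right]

theorem conj_rootLift (hk : π.ker ≤ center X) (h : IsRoot π g x lam) (s : F) :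
    g * rootLift π hs g x lam s * g⁻¹ = rootLift π hs g x lam (lam * s) := by
  simp only [rootLift]
  rw [bracket_indep π hk g (Function.surjInv hs (x (lam * s / (lam - 1))))
    (g * Function.surjInv hs (x (s / (lam - 1))) * g⁻¹) (by
      rw [Function.surjInv_eq hs, map_mul, map_mul, map_inv, Function.surjInv_eq hs, h.scale,
        mul_div_assoc])]
  simp only [commutatorElement_def]; group

end CfsgLib.Schur.PSL3FourCover
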