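import Cfsg.Agent.Lib.Schur.PSL3FourCover.Lifts
import Cfsg.Agent.Lib.Schur.Bound
import Cfsg.Agent.Lib.Involution.PSL3Four

/-!
The elementary abelian part of the multiplier of `PSL(3, 4)` has order at most four.
-/

set_option autoImplicit false
set_option linter.unusedSectionVars false
set_option linter.style.haveILetI false

namespace CfsgLib.Schur.PSL3FourCover

open Matrix Subgroup CfsgLib.Involution
open scoped MatrixGroups commutatorElement

variable {F : Type} [Field F] [Fintype F]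

local notation "M3" => Matrix (Fin 3) (Fin 3) F

/-- Upper unitriangular elements. -/
def ut (a b c : F) : SL(3, F) := ⟨!![1, a, b; 0, 1, c; 0, 0, 1], by simp [Matrix.det_fin_three]⟩

theorem ut_mul (a b c a' b' c' : F) :
    ut a b c * ut a' b' c' = ut (a + a') (b + b' + a * c') (c + c') := by
  refine Subtype.ext ?_
  rw [Matrix.SpecialLinearGroup.coe_mul]
  ext i j
  fin_cases i <;> fin_cases j <;>
    simp [ut, Matrix.mul_apply, Fin.sum_univ_three] <;> ring

theorem ut_inj (a b c : F) (h : ut a b c ∈ center (SL(3, F))) (hF : Fintype.card F = 4) :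
    a = 0 ∧ b = 0 ∧ c = 0 := by
  obtain ⟨k, -, hk⟩ := PSL3Four.exists_eq_smul hF h
  have h1 := congrFun (congrFun hk 0) 1
  have h2 := congrFun (congrFun hk 0) 2
  have h3 := congrFun (congrFun hk 1) 2
  simp [ut] at h1 h2 h3
  exact ⟨h1, h2, h3⟩

/-- A diagonal element. -/
def dg (w : F) (hw : w ^ 3 = 1) : SL(3, F) :=
  ⟨!![1, 0, 0; 0, w, 0; 0, 0, w ^ 2], by
    simp [Matrix.det_fin_three]; linear_combination hw⟩

theorem dg_conj {w : F} (hw : w ^ 3 = 1) (a b c : F) :
    dg w hw * ut a b c * (dg w hw)⁻¹ = ut (w ^ 2 * a) (w * b) (w ^ 2 * c) := by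
  rw [mul_inv_eq_iff_eq_mul]
  refine Subtype.ext ?_
  rw [Matrix.SpecialLinearGroup.coe_mul, Matrix.SpecialLinearGroup.coe_mul]
  ext i j
  fin_cases i <;> fin_cases j <;>
    simp [ut, dg, Matrix.mul_apply, Fin.sum_univ_three]
  · linear_combination -a * hw
  · linear_combination -b * hw
  · linear_combination -(c * w) * hw

theorem exists_of_matrix (M : M3) (hd : M.det = 1) (S T : SL(3, F))
    (h : M * (S : M3) = (T : M3) * M) : ∃ m : SL(3, F), m * S = T * m :=
  ⟨⟨M, hd⟩, Subtype.ext h⟩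

section

variable (hF : Fintype.card F = 4)
include hF

theorem exists_omega : ∃ w : F, w ≠ 1 ∧ w ^ 3 = 1 ∧ w ^ 2 ≠ 1 ∧
    ∀ a : F, a ≠ 0 → a = 1 ∨ a = w ∨ a = w ^ 2 := by
  classical
  obtain ⟨w, -, hw⟩ := Finset.exists_mem_notMem_of_card_lt_card
    (s := ({0, 1} : Finset F)) (t := Finset.univ) (by
      rw [Finset.card_univ, hF]; exact (Finset.card_le_two).trans_lt (by norm_num))
  rw [Finset.mem_insert, Finset.mem_singleton, not_or] at hw
  have h3 := PSL3Four.cube hF hw.1
  have hw2 : w ^ 2 ≠ 1 := fun h => hw.2 (by linear_combination h3 - w * h)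
  refine ⟨w, hw.2, h3, hw2, fun a ha => ?_⟩
  have huniv : (Finset.univ : Finset F) = {0, 1, w, w ^ 2} := by
    symm
    refine Finset.eq_univ_of_card _ ?_
    have hww : w ≠ w ^ 2 := fun h => hw.2 (mul_left_cancel₀ hw.1 (by linear_combination -h))
    have hz2 : (0 : F) ≠ w ^ 2 := Ne.symm (pow_ne_zero 2 hw.1)
    simp [hF, Finset.card_insert_of_notMem, Ne.symm hw.1, Ne.symm hw.2, Ne.symm hw2, hz2, hww]
  have := Finset.mem_univ a
  rw [huniv] at this
  simpa [ha] using this

theorem exists_row_conj {w : F × F} (hw : w ≠ 0) :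
    ∃ m : SL(3, F), m * ut 1 0 0 = ut w.1 w.2 0 * m := by
  have h2 := PSL3Four.two_eq_zero hF
  by_cases ha : w.1 = 0
  · have hb : w.2 ≠ 0 := fun h => hw (Prod.ext ha h)
    refine exists_of_matrix (!![1, 0, 0; 0, 0, w.2; 0, 1 / w.2, 0]) ?_ _ _ ?_
    · simp [Matrix.det_fin_three, hb]; linear_combination -h2
    · ext i j
      fin_cases i <;> fin_cases j <;> simp [ut, ha, hb, Matrix.SpecialLinearGroup.coe_mul, Matrix.mul_apply, Fin.sum_univ_three]
  · refine exists_of_matrix (!![1, 0, 0; 0, 1 / w.1, w.2; 0, 0, w.1]) ?_ _ _ ?_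
    · simp [Matrix.det_fin_three, ha]
    · ext i j
      fin_cases i <;> fin_cases j <;> simp [ut, ha, Matrix.SpecialLinearGroup.coe_mul, Matrix.mul_apply, Fin.sum_univ_three]
      linear_combination -(w.1 * w.2) * h2

theorem exists_col_conj {w : F × F} (hw : w ≠ 0) :
    ∃ m : SL(3, F), m * ut 0 1 0 = ut 0 w.1 w.2 * m := by
  have h2 := PSL3Four.two_eq_zero hF
  by_cases ha : w.1 = 0
  · have hb : w.2 ≠ 0 := fun h => hw (Prod.ext ha h)
    refine exists_of_matrix (!![0, 1 / w.2, 0; w.2, 0, 0; 0, 0, 1]) ?_ _ _ ?_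
    · simp [Matrix.det_fin_three, hb]; linear_combination -h2
    · ext i j
      fin_cases i <;> fin_cases j <;> simp [ut, ha, Matrix.SpecialLinearGroup.coe_mul, Matrix.mul_apply, Fin.sum_univ_three]
  · refine exists_of_matrix (!![w.1, 0, 0; w.2, 1 / w.1, 0; 0, 0, 1]) ?_ _ _ ?_
    · simp [Matrix.det_fin_three, ha]
    · ext i j
      fin_cases i <;> fin_cases j <;> simp [ut, Matrix.SpecialLinearGroup.coe_mul, Matrix.mul_apply, Fin.sum_univ_three]

theorem prod_facts : (∀ v : F × F, v + v = 0) ∧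
    ∀ v w : F × F, ∃ u, u ≠ 0 ∧ u ≠ v ∧ u ≠ w ∧ u ≠ v + w := by
  classical
  have h2 := PSL3Four.two_eq_zero hF
  refine ⟨fun v => ?_, fun v w => ?_⟩
  · ext
    · show v.1 + v.1 = 0; linear_combination v.1 * h2
    · show v.2 + v.2 = 0; linear_combination v.2 * h2
  · obtain ⟨u, -, hu⟩ := Finset.exists_mem_notMem_of_card_lt_card
      (s := ({0, v, w, v + w} : Finset (F × F))) (t := Finset.univ) (by
        rw [Finset.card_univ, Fintype.card_prod, hF]
        exact (Finset.card_le_four).trans_lt (by norm_num))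
    simp only [Finset.mem_insert, Finset.mem_singleton, not_or] at hu
    exact ⟨u, hu.1, hu.2.1, hu.2.2.1, hu.2.2.2⟩

variable {Q X : Type*} [Group Q] [Group X] (π : X →* Q) (hk : π.ker ≤ center X)
  (he : ∀ z ∈ π.ker, z * z = 1) (hs : Function.Surjective π) (ρ : SL(3, F) →* Q)
  (hρs : Function.Surjective ρ) (hρk : ρ.ker ≤ center (SL(3, F)))

theorem comm_family (hk : π.ker ≤ center X) (he : ∀ z ∈ π.ker, z * z = 1)
    (hs : Function.Surjective π) (e : F × F → SL(3, F)) (base : F × F)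
    (hadd : ∀ v w, e (v + w) = e v * e w) (htr : ∀ w, w ≠ 0 → ∃ m, m * e base = e w * m)
    (a b : X) (v w : F × F) (ha : π a = ρ (e v)) (hb : π b = ρ (e w)) : a * b = b * a := by
  refine comm_of_transitive π hk he hs (prod_facts hF).1 (fun v => ρ (e v))
    (fun v w => by simp only [hadd, map_mul]) (fun v w hv hw => ?_) (prod_facts hF).2 a b v w ha hb
  obtain ⟨m, hm⟩ := htr v hv
  obtain ⟨n, hn⟩ := htr w hw
  refine ⟨ρ (n * m⁻¹), ?_⟩
  rw [← map_inv, ← map_mul, ← map_mul]
  congr 1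
  calc n * m⁻¹ * e v * (n * m⁻¹)⁻¹ = n * (m⁻¹ * (e v * m)) * n⁻¹ := by group
    _ = (n * e base) * n⁻¹ := by rw [← hm]; group
    _ = e w := by rw [hn]; group

theorem comm_row (hk : π.ker ≤ center X) (he : ∀ z ∈ π.ker, z * z = 1)
    (hs : Function.Surjective π) (a b : X) (p q r t : F) (ha : π a = ρ (ut p q 0))
    (hb : π b = ρ (ut r t 0)) : a * b = b * a :=
  comm_family hF π ρ hk he hs (fun v => ut v.1 v.2 0) (1, 0)
    (fun v w => by rw [ut_mul]; simp) (fun _ h => exists_row_conj hF h) a b (p, q) (r, t) ha hb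

theorem comm_col (hk : π.ker ≤ center X) (he : ∀ z ∈ π.ker, z * z = 1)
    (hs : Function.Surjective π) (a b : X) (p q r t : F) (ha : π a = ρ (ut 0 p q))
    (hb : π b = ρ (ut 0 r t)) : a * b = b * a :=
  comm_family hF π ρ hk he hs (fun v => ut 0 v.1 v.2) (1, 0)
    (fun v w => by rw [ut_mul]; simp) (fun _ h => exists_col_conj hF h) a b (p, q) (r, t) ha hb


/-- Canonical lifts of the positive root groups of `SL(3, 4)`. -/
structure RootData (A B C : F → X) : Prop where
  mapA : ∀ s, π (A s) = ρ (ut s 0 0)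
  mapB : ∀ s, π (B s) = ρ (ut 0 s 0)
  mapC : ∀ s, π (C s) = ρ (ut 0 0 s)
  addA : ∀ s t, A (s + t) = A s * A t
  addB : ∀ s t, B (s + t) = B s * B t
  addC : ∀ s t, C (s + t) = C s * C t
  commAB : ∀ s t, A s * B t = B t * A s
  commCB : ∀ s t, C s * B t = B t * C s
  scale : ∃ (g : X) (w : F), w ^ 3 = 1 ∧ (∀ a : F, a ≠ 0 → a = 1 ∨ a = w ∨ a = w ^ 2) ∧
    (∀ s, g * A s * g⁻¹ = A (w ^ 2 * s)) ∧ (∀ s, g * B s * g⁻¹ = B (w * s)) ∧
    ∀ s, g * C s * g⁻¹ = C (w ^ 2 * s)

theorem exists_rootData (hk : π.ker ≤ center X) (he : ∀ z ∈ π.ker, z * z = 1)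
    (hs : Function.Surjective π) : ∃ A B C : F → X, RootData π ρ A B C := by
  obtain ⟨w, hw1, hw3, hw2, hw4⟩ := exists_omega hF
  obtain ⟨g, hg⟩ := hs (ρ (dg w hw3))
  set x := fun s : F => ρ (ut s 0 0)
  set y := fun s : F => ρ (ut 0 0 s)
  set z := fun s : F => ρ (ut 0 s 0)
  have hx : IsRoot π g x (w ^ 2) :=
    ⟨fun s t => by simp only [x, ← map_mul, ut_mul]; simp,
      fun s => by simp only [x, hg, ← map_inv, ← map_mul, dg_conj, mul_zero], hw2,
      fun a b s t ha hb => comm_row hF π ρ hk he hs a b s 0 t 0 ha hb⟩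
  have hy : IsRoot π g y (w ^ 2) :=
    ⟨fun s t => by simp only [y, ← map_mul, ut_mul]; simp,
      fun s => by simp only [y, hg, ← map_inv, ← map_mul, dg_conj, mul_zero], hw2,
      fun a b s t ha hb => comm_col hF π ρ hk he hs a b 0 s 0 t ha hb⟩
  have hz : IsRoot π g z w :=
    ⟨fun s t => by simp only [z, ← map_mul, ut_mul]; simp,
      fun s => by simp only [z, hg, ← map_inv, ← map_mul, dg_conj, mul_zero], hw1,
      fun a b s t ha hb => comm_row hF π ρ hk he hs a b 0 s 0 t ha hb⟩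
  exact ⟨rootLift π hs g x (w ^ 2), rootLift π hs g z w, rootLift π hs g y (w ^ 2),
    map_rootLift π hs hx, map_rootLift π hs hz, map_rootLift π hs hy,
    rootLift_add π hs hk hx, rootLift_add π hs hk hz, rootLift_add π hs hk hy,
    fun s t => comm_row hF π ρ hk he hs _ _ s 0 0 t (map_rootLift π hs hx s)
      (map_rootLift π hs hz t),
    fun s t => comm_col hF π ρ hk he hs _ _ 0 s t 0 (map_rootLift π hs hy s)
      (map_rootLift π hs hz t),
    g, w, hw3, hw4, conj_rootLift π hs hk hx, conj_rootLift π hs hk hz, conj_rootLift π hs hk hy⟩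

omit hF in
theorem eq_one_of_add (A : F → X) (h : ∀ s t, A (s + t) = A s * A t) : A 0 = 1 := by
  have := h 0 0
  rw [add_zero] at this
  exact left_eq_mul.mp this

omit hF in
theorem comm_of_add (A : F → X) (h : ∀ s t, A (s + t) = A s * A t) (s t : F) :
    A s * A t = A t * A s := by
  rw [← h, ← h, add_comm]

variable {A B C : F → X} (D : RootData π ρ A B C)

omit hF in
theorem exists_defect (hk : π.ker ≤ center X) (D : RootData π ρ A B C) :
    ∃ L : F → X, (∀ v, L v ∈ π.ker) ∧ (∀ v v', L (v + v') = L v * L v') ∧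
      ∀ a c, ∃ v, ⁅A a, C c⁆ = B (a * c) * L v := by
  obtain ⟨g, w, hw3, hw4, gA, gB, gC⟩ := D.scale
  set f := fun a c : F => (B (a * c))⁻¹ * ⁅A a, C c⁆ with hfdef
  have hcomm : ∀ a c, ⁅A a, C c⁆ = B (a * c) * f a c := fun a c => by simp [hfdef]
  have hfk : ∀ a c, f a c ∈ π.ker := by
    intro a c
    simp only [MonoidHom.mem_ker, hfdef, map_mul, map_inv, map_commutatorElement, D.mapA, D.mapB,
      D.mapC]
    rw [inv_mul_eq_one, commutatorElement_def, eq_mul_inv_iff_mul_eq, eq_mul_inv_iff_mul_eq,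
      ← map_mul, ← map_mul, ← map_mul]
    congr 1
    simp [ut_mul]
  have hfc : ∀ a c (k : X), k * f a c = f a c * k := fun a c k =>
    mem_center_iff.mp (hk (hfk a c)) k
  have hfinv : ∀ a c, f (w ^ 2 * a) (w ^ 2 * c) = f a c := by
    intro a c
    have hcj : g * f a c * g⁻¹ = f a c := by rw [hfc a c g, mul_inv_cancel_right]
    rw [← hcj]
    simp only [hfdef]
    rw [show w ^ 2 * a * (w ^ 2 * c) = w * (a * c) by linear_combination (a * c * w) * hw3,
      ← gA, ← gB, ← gC]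
    simp only [commutatorElement_def]
    group
  have hfaddr : ∀ a c c', f a (c + c') = f a c * f a c' := by
    intro a c c'
    have h1 : ⁅A a, C (c + c')⁆ = ⁅A a, C c⁆ * (C c * ⁅A a, C c'⁆ * (C c)⁻¹) := by
      rw [D.addC c c']; simp only [commutatorElement_def]; group
    have h3 : C c * (B (a * c') * f a c') * (C c)⁻¹ = B (a * c') * f a c' := by
      rw [← mul_assoc, D.commCB, mul_assoc (B (a * c')), hfc a c' (C c)]; group
    rw [hcomm, hcomm, hcomm, h3, mul_add, D.addB] at h1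
    refine mul_left_cancel (a := B (a * c) * B (a * c')) ?_
    rw [h1]
    calc B (a * c) * f a c * (B (a * c') * f a c')
        = B (a * c) * (f a c * B (a * c')) * f a c' := by group
      _ = _ := by rw [← hfc a c (B (a * c'))]; group
  refine ⟨f 1, hfk 1, hfaddr 1, fun a c => ?_⟩
  by_cases ha : a = 0
  · subst ha
    refine ⟨0, ?_⟩
    rw [eq_one_of_add A D.addA, eq_one_of_add (f 1) (hfaddr 1), zero_mul,
      eq_one_of_add B D.addB, mul_one, commutatorElement_one_left]
  suffices h : ∃ v, f a c = f 1 v from h.imp fun v hv => by rw [← hv, hcomm]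
  rcases hw4 a ha with rfl | rfl | rfl
  · exact ⟨c, rfl⟩
  · refine ⟨a ^ 2 * c, ?_⟩
    rw [← hfinv a c, show a ^ 2 * a = 1 by linear_combination hw3]
  · refine ⟨w ^ 4 * c, ?_⟩
    rw [← hfinv (w ^ 2) c, ← hfinv (w ^ 2 * w ^ 2) (w ^ 2 * c),
      show w ^ 2 * (w ^ 2 * w ^ 2) = 1 by linear_combination (w ^ 3 + 1) * hw3]
    congr 1
    ring

/-- Commutators in the preimage of the unitriangular group. -/
theorem commutator_form (hk : π.ker ≤ center X) (D : RootData π ρ A B C) {L : F → X}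
    (hLk : ∀ v, L v ∈ π.ker) (hLadd : ∀ v v', L (v + v') = L v * L v')
    (hL : ∀ a c, ∃ v, ⁅A a, C c⁆ = B (a * c) * L v) {p q : X}
    (hp : ∃ a c b, ∃ k ∈ π.ker, p = A a * C c * (B b * k))
    (hq : ∃ a c b, ∃ k ∈ π.ker, q = A a * C c * (B b * k)) :
    ∃ u v, ⁅p, q⁆ = B u * L v := by
  obtain ⟨a, c, b, k, hk', rfl⟩ := hp
  obtain ⟨a', c', b', k', hk'', rfl⟩ := hq
  have cen : ∀ z ∈ π.ker, ∀ y : X, y * z = z * y := fun z hz y => mem_center_iff.mp (hk hz) y
  -- `B b * k` commutes with every element of the preimage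
  have hz : ∀ (b : F) (z : X), z ∈ π.ker → ∀ m n, Commute (B b * z) (A m * C n) := fun b z hz m n =>
    Commute.mul_left (Commute.mul_right (D.commAB m b).symm (D.commCB n b).symm) (cen z hz _).symm
  have hzz : Commute (B b * k) (B b' * k') := Commute.mul_left
    (Commute.mul_right (comm_of_add B D.addB b b') (cen k' hk'' _))
    (cen k hk' _).symm
  have h1 : ⁅A a * C c * (B b * k), A a' * C c' * (B b' * k')⁆ =
      ⁅A a * C c, A a' * C c'⁆ := by
    simp only [commutatorElement_def]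
    calc A a * C c * (B b * k) * (A a' * C c' * (B b' * k')) * (A a * C c * (B b * k))⁻¹ *
          (A a' * C c' * (B b' * k'))⁻¹
        = A a * C c * ((B b * k) * (A a' * C c' * (B b' * k'))) * (B b * k)⁻¹ *
            ((A a * C c)⁻¹ * (B b' * k')⁻¹) * (A a' * C c')⁻¹ := by group
      _ = A a * C c * ((A a' * C c' * (B b' * k')) * (B b * k)) * (B b * k)⁻¹ *
            ((B b' * k')⁻¹ * (A a * C c)⁻¹) * (A a' * C c')⁻¹ := by
          rw [((hz b k hk' a' c').mul_right hzz).eq, (hz b' k' hk'' a c).inv_inv.eq]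
      _ = _ := by group
  have hBL : ∀ u v m n, Commute (B u * L v) (A m * C n) := fun u v => hz u (L v) (hLk v)
  have hswap : ∀ m n, C n * A m = ⁅A m, C n⁆⁻¹ * (A m * C n) := fun m n => by
    simp only [commutatorElement_def]; group
  have key : ∀ a c a' c', A a * C c * (A a' * C c') =
      ⁅A a', C c⁆⁻¹ * (A (a + a') * C (c + c')) := by
    intro a c a' c'
    obtain ⟨v, hv⟩ := hL a' c
    have hm : Commute (⁅A a', C c⁆⁻¹) (A a) := by
      have := (hBL (a' * c) v a 0).inv_left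
      rwa [eq_one_of_add C D.addC, mul_one, ← hv] at this
    calc A a * C c * (A a' * C c') = A a * (C c * A a') * C c' := by group
      _ = (A a * ⁅A a', C c⁆⁻¹) * (A a' * C c * C c') := by rw [hswap]; group
      _ = _ := by rw [← hm.eq, D.addA, D.addC]; group
  obtain ⟨v, hv⟩ := hL a' c
  obtain ⟨v', hv'⟩ := hL a c'
  refine ⟨a' * c + a * c', v + v', ?_⟩
  have hB2 : ∀ u, B u * B u = 1 := fun u => by
    rw [← D.addB, show u + u = 0 by linear_combination u * (PSL3Four.two_eq_zero hF), eq_one_of_add B D.addB]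
  have hL2 : ∀ u, L u * L u = 1 := fun u => by
    rw [← hLadd, show u + u = 0 by linear_combination u * (PSL3Four.two_eq_zero hF), eq_one_of_add L hLadd]
  rw [h1]
  calc ⁅A a * C c, A a' * C c'⁆ = (A a * C c * (A a' * C c')) * (A a' * C c' * (A a * C c))⁻¹ := by
        simp only [commutatorElement_def]; group
    _ = ⁅A a', C c⁆⁻¹ * ⁅A a, C c'⁆ := by
        rw [key, key, add_comm a' a, add_comm c' c]; group
    _ = (B (a' * c))⁻¹ * (L v)⁻¹ * (B (a * c') * L v') := by
        rw [hv, hv', _root_.mul_inv_rev, cen _ (π.ker.inv_mem (hLk v))]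
    _ = _ := by
        rw [inv_eq_of_mul_eq_one_right (hB2 _), inv_eq_of_mul_eq_one_right (hL2 _), D.addB, hLadd,
          mul_assoc, ← mul_assoc (L v), ← cen _ (hLk v)]
        group

include hρs hρk in
/-- An elementary abelian central extension of `PSL(3, 4)` inside the commutator subgroup has kernel
of order at most four. -/
theorem card_ker_le [Finite X] (hk : π.ker ≤ center X) (he : ∀ z ∈ π.ker, z * z = 1)
    (hs : Function.Surjective π) (hd : π.ker ≤ commutator X) (hcard : Nat.card Q = 20160) :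
    Nat.card π.ker ≤ 4 := by
  haveI : Finite Q := Finite.of_surjective π hs
  have h2 := PSL3Four.two_eq_zero hF
  obtain ⟨A, B, C, D⟩ := exists_rootData hF π ρ hk he hs
  obtain ⟨L, hLk, hLadd, hL⟩ := exists_defect π ρ hk D
  have hLc : ∀ v (y : X), y * L v = L v * y := fun v y => mem_center_iff.mp (hk (hLk v)) y
  let ψ : Multiplicative (F × F) →* X := MonoidHom.mk'
    (fun v => B v.toAdd.1 * L v.toAdd.2) fun v v' => by
      simp only [toAdd_mul, Prod.fst_add, Prod.snd_add]
      rw [D.addB, hLadd]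
      calc B v.toAdd.1 * B v'.toAdd.1 * (L v.toAdd.2 * L v'.toAdd.2)
          = B v.toAdd.1 * (B v'.toAdd.1 * L v.toAdd.2) * L v'.toAdd.2 := by group
        _ = _ := by rw [hLc v.toAdd.2 (B v'.toAdd.1)]; group
  let U : Subgroup (SL(3, F)) :=
    { carrier := {m | ∃ a b c, ut a b c = m}
      mul_mem' := by
        rintro _ _ ⟨a, b, c, rfl⟩ ⟨a', b', c', rfl⟩
        exact ⟨_, _, _, (ut_mul a b c a' b' c').symm⟩
      one_mem' := ⟨0, 0, 0, Subtype.ext (by
        ext i j; fin_cases i <;> fin_cases j <;> simp [ut])⟩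
      inv_mem' := by
        rintro _ ⟨a, b, c, rfl⟩
        refine ⟨a, b + a * c, c, eq_inv_of_mul_eq_one_left ?_⟩
        rw [ut_mul]
        refine Subtype.ext ?_
        ext i j
        fin_cases i <;> fin_cases j <;> simp [ut]
        · linear_combination a * h2
        · linear_combination (b + a * c) * h2
        · linear_combination c * h2 }
  have hinj : ∀ a b c a' b' c', ρ (ut a b c) = ρ (ut a' b' c') → a = a' ∧ b = b' ∧ c = c' := by
    intro a b c a' b' c' h1
    have h3 : (ut a b c)⁻¹ * ut a' b' c' ∈ center (SL(3, F)) := hρk (by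
      rw [MonoidHom.mem_ker, map_mul, map_inv, h1, inv_mul_cancel])
    obtain ⟨p, q, r, hpqr⟩ : (ut a b c)⁻¹ * ut a' b' c' ∈ U :=
      U.mul_mem (U.inv_mem ⟨a, b, c, rfl⟩) ⟨a', b', c', rfl⟩
    rw [← hpqr] at h3
    obtain ⟨rfl, rfl, rfl⟩ := ut_inj p q r h3 hF
    rw [eq_inv_mul_iff_mul_eq, ut_mul] at hpqr
    have e1 := congrArg (fun m : SL(3, F) => ((m : M3) 0 1, (m : M3) 0 2, (m : M3) 1 2)) hpqr
    simp [ut] at e1
    exact e1
  have hidx : Odd (U.map ρ).index := by
    have hb : Function.Bijective (fun p : F × F × F =>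
        (⟨ρ (ut p.1 p.2.1 p.2.2), ⟨_, ⟨_, _, _, rfl⟩, rfl⟩⟩ : U.map ρ)) := by
      refine ⟨?_, ?_⟩
      · rintro ⟨a, b, c⟩ ⟨a', b', c'⟩ h
        obtain ⟨rfl, rfl, rfl⟩ := hinj _ _ _ _ _ _ (congrArg Subtype.val h)
        rfl
      · rintro ⟨_, _, ⟨a, b, c, rfl⟩, rfl⟩
        exact ⟨(a, b, c), rfl⟩
    have h64 : Nat.card (U.map ρ) = 64 := by
      rw [← Nat.card_eq_of_bijective _ hb]
      simp [Nat.card_eq_fintype_card, hF]
    have := (U.map ρ).card_mul_index
    rw [h64, hcard] at this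
    exact ⟨157, by omega⟩
  set P := (U.map ρ).comap π with hP
  have hdecomp : ∀ p ∈ P, ∃ a c b, ∃ k ∈ π.ker, p = A a * C c * (B b * k) := by
    intro p hp
    obtain ⟨_, ⟨a, b, c, rfl⟩, hm⟩ := (mem_comap.mp hp)
    refine ⟨a, c, b + a * c, (A a * C c * B (b + a * c))⁻¹ * p, ?_, by group⟩
    rw [MonoidHom.mem_ker, map_mul, map_inv, map_mul, map_mul, D.mapA, D.mapB, D.mapC, ← map_mul,
      ← map_mul, ← hm, inv_mul_eq_one]
    congr 1
    simp [ut_mul]
    congr 1
    linear_combination (a * c) * h2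
  have key : ∀ u ∈ π.ker, ∃ v, L v = u := by
    intro u hu
    have h1 := Bound.pow_index_mem π hs (U.map ρ) (hk hu) (hd hu)
    obtain ⟨m, hm⟩ := hidx
    rw [hm, pow_succ, pow_mul, pow_two, he u hu, one_pow, one_mul] at h1
    have h3 : (commutator P).map P.subtype ≤ ψ.range := by
      rw [_root_.commutator_def, map_commutator, ← MonoidHom.range_eq_map, range_subtype,
        commutator_le]
      intro p hp q hq
      obtain ⟨s, v, hsv⟩ := commutator_form hF π ρ hk D hLk hLadd hL (hdecomp p hp) (hdecomp q hq)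
      exact ⟨Multiplicative.ofAdd (s, v), hsv.symm⟩
    obtain ⟨v, rfl⟩ := h3 h1
    refine ⟨v.toAdd.2, ?_⟩
    have h4 : π (B v.toAdd.1 * L v.toAdd.2) = 1 := hu
    rw [map_mul, MonoidHom.mem_ker.mp (hLk _), mul_one, D.mapB] at h4
    have h5 := (ut_inj _ _ _ (hρk (MonoidHom.mem_ker.mpr h4)) hF).2.1
    show L v.toAdd.2 = B v.toAdd.1 * L v.toAdd.2
    rw [h5, eq_one_of_add B D.addB, one_mul]
  calc Nat.card π.ker ≤ Nat.card F :=
        Nat.card_le_card_of_surjective (fun v => (⟨L v, hLk v⟩ : π.ker)) fun u => by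
          obtain ⟨v, hv⟩ := key u u.2
          exact ⟨v, Subtype.ext hv⟩
    _ = 4 := by rw [Nat.card_eq_fintype_card, hF]

end

end CfsgLib.Schur.PSL3FourCover
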